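import Groth.Agent.RefX.Ext
import Groth.Agent.AssLib.OpenRestrict
import Groth.Agent.QCoh.LocFree
import Groth.Agent.ExtPowSh.Loc

/-!
# The determinant across small closed subsets
-/

set_option autoImplicit false
set_option linter.style.haveILetI false
set_option backward.isDefEq.respectTransparency false
set_option backward.isDefEq.respectTransparency.types false

universe u

open CategoryTheory AlgebraicGeometry TopologicalSpace

namespace Groth.Agent.RhoSh6

variable {X : Scheme.{u}}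

private theorem isFinLocFree_iso' {M N : X.Modules} (e : M ≅ N) : FlatMod.IsFinLocFree M ↔ FlatMod.IsFinLocFree N :=
  ⟨fun h x => let ⟨U, n, hx, ⟨i⟩⟩ := h x
    ⟨U, n, hx, ⟨((Scheme.Modules.restrictFunctor U.ι).mapIso e).symm ≪≫ i⟩⟩,
  fun h x => let ⟨U, n, hx, ⟨i⟩⟩ := h x
    ⟨U, n, hx, ⟨(Scheme.Modules.restrictFunctor U.ι).mapIso e ≪≫ i⟩⟩⟩

/-- Stalks of restrictions are free iff the stalks are. -/
private theorem exists_stalk_restrict' {U : X.Opens} (M : X.Modules) (z : (U : Scheme.{u})) :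
    ∃ (σ : X.presheaf.stalk z.1 ≃+* (U : Scheme.{u}).presheaf.stalk z)
      (e : M.presheaf.stalk z.1 ≃+ (M.restrict U.ι).presheaf.stalk z), ∀ a m, e (a • m) = σ a • e m := by
  obtain ⟨e, he⟩ := AssLib.exists_semilinear_restrict U.ι M z
  refine ⟨(asIso (U.ι.stalkMap z)).commRingCatIsoToRingEquiv, e.symm, fun (a : X.presheaf.stalk (U.ι.base z))
    (m : M.presheaf.stalk (U.ι.base z)) => e.injective ?_⟩
  exact (e.apply_symm_apply _).trans ((he a (e.symm m)).trans (congrArg (fun v : M.presheaf.stalk (U.ι.base z) => (a : X.presheaf.stalk (U.ι.base z)) • v) (e.apply_symm_apply m))).symm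

private theorem free_stalk_restrict_iff' {U : X.Opens} (M : X.Modules) {x : X} (hx : x ∈ U) :
    Module.Free ((U : Scheme.{u}).presheaf.stalk ⟨x, hx⟩) ((M.restrict U.ι).presheaf.stalk ⟨x, hx⟩) ↔
      Module.Free (X.presheaf.stalk x) (M.presheaf.stalk x) := by
  obtain ⟨σ, e, he⟩ := exists_stalk_restrict' M (⟨x, hx⟩ : (U : Scheme.{u}))
  haveI := RingHomInvPair.of_ringEquiv σ
  haveI := RingHomInvPair.symm (σ : X.presheaf.stalk x →+* (U : Scheme.{u}).presheaf.stalk ⟨x, hx⟩) (σ.symm : (U : Scheme.{u}).presheaf.stalk ⟨x, hx⟩ →+* X.presheaf.stalk x)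
  let es : M.presheaf.stalk x ≃ₛₗ[(σ : X.presheaf.stalk x →+* (U : Scheme.{u}).presheaf.stalk ⟨x, hx⟩)] (M.restrict U.ι).presheaf.stalk ⟨x, hx⟩ :=
    { e with map_smul' := fun a m => he a m }
  exact (Module.Free.iff_of_equiv es).symm

private theorem app_bijective_of_stalk' {F G : X.Modules} (φ : F ⟶ G) (W : X.Opens)
    (h : ∀ x ∈ W, Function.Bijective (RefHull.stalkMapₗ φ x)) : Function.Bijective (φ.app W) :=
  TopCat.Presheaf.app_bijective_of_stalkFunctor_map_bijective ((KFlatLib.toAb X).map φ) W h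



/-- Restriction of the structure module is restriction of the structure sheaf. -/
theorem bijective_res_structureModule {W W' : X.Opens} (h : W' ≤ W)
    (hb : Function.Bijective (X.presheaf.map (homOfLE h).op)) :
    Function.Bijective (AModX.res (Coh.structureModule X) h) := hb

/-- A basis of opens with the extension property suffices. -/
theorem extendsAcross_of_basis (M : X.Modules) (U : X.Opens)
    (h : ∀ (p : X) (W : X.Opens), p ∈ W → ∃ V : X.Opens, p ∈ V ∧ V ≤ W ∧
      Function.Bijective (AModX.res M (inf_le_left : V ⊓ U ≤ V))) : RefX.ExtendsAcross U M := by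
  have hinj : ∀ W : X.Opens, Function.Injective (AModX.res M (inf_le_left : W ⊓ U ≤ W)) := by
    intro W s t hst
    refine AModX.eq_of_locally _ _ fun p hp => ?_
    obtain ⟨V, hpV, hVW, hb⟩ := h p W hp
    refine ⟨V, hVW, hpV, hb.1 ?_⟩
    have := congrArg (AModX.res M (inf_le_inf_right U hVW)) hst
    simpa only [AModX.res_res] using this
  intro W
  refine ⟨hinj W, fun s => ?_⟩
  choose V hpV hVW hb using fun p : W => h p.1 W p.2
  choose g hg using fun p => (hb p).2 (AModX.res M (inf_le_inf_right U (hVW p)) s)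
  obtain ⟨t, ht, -⟩ := AModX.existsUnique_glue (M := M) (V := W) V hVW (fun p hp => ⟨⟨p, hp⟩, hpV ⟨p, hp⟩⟩) g
    fun c d => by
      refine hinj _ ?_
      have h1 := congrArg (AModX.res M (inf_le_inf_right U (inf_le_left : V c ⊓ V d ≤ V c))) (hg c)
      have h2 := congrArg (AModX.res M (inf_le_inf_right U (inf_le_right : V c ⊓ V d ≤ V d))) (hg d)
      rw [AModX.res_res, AModX.res_res] at h1 h2
      rw [AModX.res_res, AModX.res_res]
      exact h1.trans h2.symm
  refine ⟨t, AModX.eq_of_locally _ _ fun p hp => ⟨V ⟨p, hp.1⟩ ⊓ U, inf_le_inf_right U (hVW _), ⟨hpV _, hp.2⟩, ?_⟩⟩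
  have h1 := congrArg (AModX.res M (inf_le_left : V ⟨p, hp.1⟩ ⊓ U ≤ _)) (ht ⟨p, hp.1⟩)
  rw [hg, AModX.res_res] at h1
  rw [AModX.res_res]
  exact h1

variable {F L : X.Modules} {h : ℕ}

theorem isCoh_of_isExtPow [IsLocallyNoetherian X] (hF : Coh.IsCoh F) (hL : ExtPow.IsExtPow h F L) :
    Coh.IsCoh L := by
  obtain ⟨eL⟩ := ExtPowSh.nonempty_iso (ExtPowSh.isExtPow F h hF.1) hL
  have hLq : Coh.IsQCoh L := (QCoh.isQCoh_iff_iso eL).1 (ExtPowSh.isQCoh F h hF.1)
  obtain ⟨φ, -⟩ := hL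
  refine QCoh.isCoh_iff.2 ⟨hLq, fun V => ?_⟩
  haveI : Module.Finite Γ(X, V.1) (F.val.obj (Opposite.op V.1)) := (QCoh.isCoh_iff.1 hF).2 V
  exact Module.Finite.equiv (φ V).symm

theorem isFinLocFree_restrict_of_isExtPow (U : X.Opens) (hF : Coh.IsQCoh F)
    (hFU : FlatMod.IsFinLocFreeOfRank h (F.restrict U.ι)) (hL : ExtPow.IsExtPow h F L) :
    FlatMod.IsFinLocFree (L.restrict U.ι) := by
  obtain ⟨eL⟩ := ExtPowSh.nonempty_iso (ExtPowSh.isExtPow F h hF) hL
  have hFU' : FlatMod.IsFinLocFree ((Scheme.Modules.pullback U.ι).obj F) :=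
    (isFinLocFree_iso' ((Scheme.Modules.restrictFunctorIsoPullback U.ι).app F)).1
      (fun x => let ⟨V, hx, hV⟩ := hFU x; ⟨V, h, hx, hV⟩)
  obtain ⟨e₁⟩ := ExtPowSh.nonempty_pullback_iso U.ι F h hF
  exact (isFinLocFree_iso'
    (((Scheme.Modules.restrictFunctorIsoPullback U.ι).app L) ≪≫ (Scheme.Modules.pullback U.ι).mapIso eL.symm ≪≫ e₁)).2
    (ExtPowSh.isFinLocFree hFU')

theorem bijective_stalkMap_bidual_of_locFree [IsLocallyNoetherian X] (U : X.Opens) (hL : Coh.IsCoh L)
    (hLU : FlatMod.IsFinLocFree (L.restrict U.ι)) {x : X} (hx : x ∈ U) :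
    Function.Bijective (RefHull.stalkMapₗ (RefHull.bidualMap L) x) := by
  refine (RefX.stalkMap_bidual_bijective_iff hL x).2 ?_
  haveI := (free_stalk_restrict_iff' L hx).1 (QCoh.free_stalk_of_isFinLocFree hLU ⟨x, hx⟩)
  haveI := QCoh.finite_stalk_of_isFT hL.1 hL.2 x
  exact inferInstanceAs (Module.IsReflexive (X.presheaf.stalk x) (L.presheaf.stalk x))

/-- A map which is bijective on stalks over an open restricts to an isomorphism. -/
theorem isIso_restrict_map_of_stalk {M N : X.Modules} (φ : M ⟶ N) (U : X.Opens)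
    (hst : ∀ x ∈ U, Function.Bijective (RefHull.stalkMapₗ φ x)) :
    IsIso ((Scheme.Modules.restrictFunctor U.ι).map φ) := by
  refine Scheme.Modules.Hom.isIso_iff_isIso_app.2 fun W => (ConcreteCategory.isIso_iff_bijective _).2 ?_
  exact app_bijective_of_stalk' φ (U.ι ''ᵁ W) fun x hx => hst x (by
    obtain ⟨y, -, rfl⟩ := hx
    exact y.2)

end Groth.Agent.RhoSh6
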