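import Groth.Agent.Triage.SliceFlatSch
import Groth.Agent.Triage.CMMor
import Groth.Agent.GrpSchLib.SmoothRegular
import Groth.Agent.LC.GorRows
import Groth.Agent.LC.GorHull
import Groth.Agent.Alg6.AssDepth
import Groth.Prelude.Def_CInt

/-!
# Depth along the fibres of a smooth morphism over an arbitrary base
-/

set_option autoImplicit false
set_option linter.style.haveILetI false
set_option backward.isDefEq.respectTransparency false
set_option backward.isDefEq.respectTransparency.types false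

universe u

open AlgebraicGeometry CategoryTheory IsLocalRing RingTheory.Sequence

namespace Groth.Agent.RhoSh6

variable {X S : Scheme.{u}}

/-- A regular sequence of a fibre lifts to one of the total space. -/
theorem exists_weaklyRegular_stalk (f : X ⟶ S) [LocallyOfFinitePresentation f] (x : X)
    (hflat : (f.stalkMap x).hom.Flat) (rs : List (CInt.fiberStalk f x))
    (hrs : IsWeaklyRegular (CInt.fiberStalk f x) rs) (hmem : ∀ r ∈ rs, r ∈ maximalIdeal (CInt.fiberStalk f x)) :
    ∃ hs : List (X.presheaf.stalk x), hs.length = rs.length ∧ IsWeaklyRegular (X.presheaf.stalk x) hs ∧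
      ∀ r ∈ hs, r ∈ maximalIdeal (X.presheaf.stalk x) := by
  let O : Type u := X.presheaf.stalk x
  let J : Ideal O := (maximalIdeal (S.presheaf.stalk (f x))).map (f.stalkMap x).hom
  obtain ⟨e⟩ := Triage.CMMor.exists_equiv_fibre_stalk f x
  let φ : O →+* CInt.fiberStalk f x := (e : _ →+* _).comp (Ideal.Quotient.mk J)
  have hφ : Function.Surjective φ := e.surjective.comp Ideal.Quotient.mk_surjective
  obtain ⟨hs, hhs⟩ : ∃ hs : List O, hs.map φ = rs := List.map_surjective_iff.2 hφ rs
  subst hhs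
  rw [List.length_map]
  haveI : IsLocalHom φ := by
    haveI : Nontrivial (CInt.fiberStalk f x) := inferInstance
    exact IsLocalHom.of_surjective φ hφ
  have hm : ∀ h ∈ hs, h ∈ maximalIdeal O := fun h hh hu =>
    hmem (φ h) (List.mem_map_of_mem hh) (hu.map φ)
  have hker : RingHom.ker φ = J := by
    ext a
    rw [RingHom.mem_ker]
    show e (Ideal.Quotient.mk J a) = 0 ↔ a ∈ J
    rw [map_eq_zero_iff e e.injective, Ideal.Quotient.eq_zero_iff_mem]
  have hreg : ∀ i (hi : i < hs.length), ∀ z, hs[i] * z ∈ Ideal.ofList (hs.take i) ⊔ J →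
      z ∈ Ideal.ofList (hs.take i) ⊔ J := by
    intro i hi z hz
    have h0 := hrs.regular_mod_prev i (by simpa using hi)
    have hI : ∀ w, Submodule.Quotient.mk (p := (Ideal.ofList ((hs.map φ).take i) • ⊤ :
        Submodule (CInt.fiberStalk f x) (CInt.fiberStalk f x))) (φ w) = 0 ↔
        w ∈ Ideal.ofList (hs.take i) ⊔ J := by
      intro w
      rw [Submodule.Quotient.mk_eq_zero, Ideal.smul_eq_mul, Ideal.mul_top, ← List.map_take,
        ← Ideal.map_ofList, ← Ideal.mem_comap, Ideal.comap_map_of_surjective _ hφ,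
        ← RingHom.ker_eq_comap_bot, hker]
    rw [← hI]
    refine h0.right_eq_zero_of_smul ?_
    rw [← Submodule.Quotient.mk_smul]
    simp only [List.getElem_map, smul_eq_mul, ← map_mul]
    exact (hI _).2 hz
  obtain ⟨V, hV, U, hU, hx, -, e', hs', hgerm, -, hwr, -⟩ :=
    Triage.SliceFlat.exists_slice_sch f x hflat hs hm hreg ⊤ trivial
  subst hgerm
  letI := X.presheaf.algebra_section_stalk (⟨x, hx⟩ : U)
  haveI := hU.isLocalization_stalk ⟨x, hx⟩
  exact ⟨_, rfl, hwr.of_isLocalizedModule (X.presheaf.stalk x) (hU.primeIdealOf ⟨x, hx⟩).asIdeal.primeCompl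
    (Algebra.linearMap Γ(X, U) (X.presheaf.stalk x)), hm⟩

/-- The depth of a point of a smooth morphism is at least the dimension of the fibre there. -/
theorem le_depth_of_smooth (f : X ⟶ S) [Smooth f] (x : X) (k : ℕ)
    (hk : (k : WithBot ℕ∞) ≤ ringKrullDim (CInt.fiberStalk f x)) :
    ∃ hs : List (X.presheaf.stalk x), k ≤ hs.length ∧ IsWeaklyRegular (X.presheaf.stalk x) hs ∧
      ∀ r ∈ hs, r ∈ maximalIdeal (X.presheaf.stalk x) := by
  haveI : Smooth (f.fiberToSpecResidueField (f x)) :=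
    MorphismProperty.pullback_snd (P := @Smooth) _ _ inferInstance
  haveI : IsRegularLocalRing (CInt.fiberStalk f x) :=
    GrpSchLib.isRegularLocalRing_stalk_of_smooth (f.fiberToSpecResidueField (f x)) (f.asFiber x)
  haveI := LC.gorenstein_of_isRegularLocalRing (R := CInt.fiberStalk f x)
  obtain ⟨d, hd, hdep, -⟩ := LC.gorenstein_basic (R := CInt.fiberStalk f x)
  rw [hd] at hk
  have hkd : (k : ℕ∞) ≤ LocCoh.idealDepth (maximalIdeal (CInt.fiberStalk f x)) (CInt.fiberStalk f x) := by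
    rw [show LocCoh.idealDepth (maximalIdeal (CInt.fiberStalk f x)) (CInt.fiberStalk f x) = d from hdep]
    exact_mod_cast hk
  obtain ⟨rs, hrs, hmem, hlen⟩ := Alg6.exists_length_ge_of_le_idealDepth (by
    rw [Ideal.smul_eq_mul, Ideal.mul_top]
    exact (maximalIdeal.isMaximal _).ne_top) hkd
  obtain ⟨hs, hl, h1, h2⟩ := exists_weaklyRegular_stalk f x (Flat.stalkMap f x) rs hrs hmem
  exact ⟨hs, hl ▸ hlen, h1, h2⟩

/-- An open set is schematically dense when every point outside it has a nonzerodivisor in its maximal ideal. -/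
theorem isSchematicallyDense_of_exists_regular (U : X.Opens)
    (h : ∀ x : X, x ∉ U → ∃ r ∈ maximalIdeal (X.presheaf.stalk x), IsSMulRegular (X.presheaf.stalk x) r) :
    CInt.IsSchematicallyDense U := by
  intro V
  rw [injective_iff_map_eq_zero]
  intro s hs
  refine TopCat.Presheaf.section_ext X.sheaf _ _ _ fun z hz => ?_
  show X.presheaf.germ V z hz s = X.presheaf.germ V z hz 0
  rw [map_zero]
  obtain ⟨_, ⟨W, hW, rfl⟩, hzW, hWV⟩ :=
    X.isBasis_affineOpens.exists_subset_of_mem_open (u := (V : Set X)) hz V.isOpen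
  have hWV' : W ≤ V := hWV
  let A : Type u := Γ(X, W)
  let t : A := X.presheaf.map (homOfLE hWV').op s
  rw [show X.presheaf.germ V z hz s = X.presheaf.germ W z hzW t from
    (X.presheaf.germ_res_apply (homOfLE hWV') z hzW s).symm]
  by_contra hne
  let I : Ideal A := LinearMap.ker (LinearMap.toSpanSingleton A A t)
  have hI : ∀ {a : A}, a ∈ I ↔ a * t = 0 := fun {a} => Iff.rfl
  have hgz : ∀ (w : X) (hw : w ∈ W), X.presheaf.germ W w hw t = 0 ↔ ¬ I ≤ (hW.primeIdealOf ⟨w, hw⟩).asIdeal := by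
    intro w hw
    letI := X.presheaf.algebra_section_stalk (⟨w, hw⟩ : W)
    haveI := hW.isLocalization_stalk ⟨w, hw⟩
    rw [show X.presheaf.germ W w hw t = algebraMap A (X.presheaf.stalk w) t from rfl,
      IsLocalization.map_eq_zero_iff (hW.primeIdealOf ⟨w, hw⟩).asIdeal.primeCompl (X.presheaf.stalk w) t]
    exact ⟨fun ⟨c, hc⟩ hle => c.2 (hle (hI.2 hc)), fun hle => by
      obtain ⟨c, hc, hc'⟩ := SetLike.not_le_iff_exists.1 hle
      exact ⟨⟨c, hc'⟩, hI.1 hc⟩⟩
  rw [hgz z hzW, not_not] at hne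
  obtain ⟨P, hP, hPz⟩ := Ideal.exists_minimalPrimes_le hne
  haveI := hP.1.1
  -- the point of `P`
  haveI := hW.isOpenImmersion_fromSpec
  let w : X := hW.fromSpec ⟨P, hP.1.1⟩
  have hw : w ∈ W := by
    rw [← SetLike.mem_coe, ← hW.range_fromSpec]
    exact Set.mem_range_self _
  have hwP : hW.primeIdealOf ⟨w, hw⟩ = ⟨P, hP.1.1⟩ :=
    hW.fromSpec.isOpenEmbedding.injective (hW.fromSpec_primeIdealOf _)
  letI := X.presheaf.algebra_section_stalk (⟨w, hw⟩ : W)
  haveI := hW.isLocalization_stalk ⟨w, hw⟩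
  let O : Type u := X.presheaf.stalk w
  have hpc : (hW.primeIdealOf ⟨w, hw⟩).asIdeal = P := congrArg PrimeSpectrum.asIdeal hwP
  have hwU : w ∉ U := fun hwU => by
    have hg : X.presheaf.germ W w hw t = 0 := by
      rw [X.presheaf.germ_res_apply (homOfLE hWV') w hw s]
      have h1 := X.presheaf.germ_res_apply (homOfLE (inf_le_left : V ⊓ U ≤ V)) w ⟨hWV' hw, hwU⟩ s
      rw [← h1]
      refine (congrArg (X.presheaf.germ (V ⊓ U) w ⟨hWV' hw, hwU⟩) hs).trans (map_zero _)
    rw [hgz w hw, hpc] at hg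
    exact hg hP.1.2
  obtain ⟨r, hrm, hr⟩ := h w hwU
  -- a power of `r` kills the germ
  obtain ⟨⟨a, c⟩, hac⟩ := IsLocalization.surj (hW.primeIdealOf ⟨w, hw⟩).asIdeal.primeCompl r
  have ha : a ∈ P := by
    rw [← hpc, ← IsLocalization.AtPrime.to_map_mem_maximal_iff O (hW.primeIdealOf ⟨w, hw⟩).asIdeal a]
    exact hac ▸ Ideal.mul_mem_right _ _ hrm
  obtain ⟨u, hu, N, hN⟩ : ∃ u, u ∉ P ∧ ∃ N : ℕ, u * a ^ N ∈ I := by
    by_contra hcon
    simp only [not_exists, not_and] at hcon
    let S : Submonoid A := P.primeCompl ⊔ Submonoid.powers a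
    have hd : Disjoint (I : Set A) (S : Set A) := by
      refine Set.disjoint_right.2 fun y hy hyI => ?_
      obtain ⟨u, hu, v, ⟨N, rfl⟩, rfl⟩ := Submonoid.mem_sup.1 hy
      exact hcon u hu N hyI
    obtain ⟨Q, hQ, hIQ, hQd⟩ := Ideal.exists_le_prime_disjoint I S hd
    have hQP : Q ≤ P := fun y hy => by
      by_contra hyP
      exact Set.disjoint_left.1 hQd hy (Submonoid.mem_sup_left hyP)
    exact Set.disjoint_left.1 hQd (hP.2 ⟨hQ, hIQ⟩ hQP ha) (Submonoid.mem_sup_right (Submonoid.mem_powers a))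
  have h0 : algebraMap A O t ≠ 0 := by
    intro h0
    have := (hgz w hw).1 h0
    rw [hpc] at this
    exact this hP.1.2
  refine h0 ?_
  have e1 : algebraMap A O u * (r * algebraMap A O c) ^ N * algebraMap A O t = 0 := by
    rw [hac, ← map_pow, ← map_mul, ← map_mul, hI.1 hN, map_zero]
  have hu₀ : u ∈ (hW.primeIdealOf ⟨w, hw⟩).asIdeal.primeCompl := fun hmem => hu (hpc.le hmem)
  have hu' : IsUnit (algebraMap A O u * algebraMap A O c ^ N) :=
    (IsLocalization.map_units O (⟨u, hu₀⟩ : (hW.primeIdealOf ⟨w, hw⟩).asIdeal.primeCompl)).mul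
      ((IsLocalization.map_units O c).pow N)
  refine (hr.pow N).right_eq_zero_of_smul ?_
  rw [smul_eq_mul, ← hu'.mul_right_eq_zero, ← e1]
  ring

end Groth.Agent.RhoSh6
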