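import Groth.Agent.RhoSh6.Depth
import Groth.Agent.BlowUpX.ProperInter
import Groth.Agent.CplFib6.QuotReg
import Groth.Agent.LC.CodimPropagate
import Groth.Agent.LC.DepthLoc

/-!
# Extending sections across subsets of relative codimension two
-/

set_option autoImplicit false
set_option linter.style.haveILetI false
set_option backward.isDefEq.respectTransparency false
set_option backward.isDefEq.respectTransparency.types false

universe u

open AlgebraicGeometry CategoryTheory CategoryTheory.Limits IsLocalRing RingTheory.Sequence TopologicalSpace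
open scoped Pointwise

namespace Groth.Agent.RhoSh6

variable {X S : Scheme.{u}}

/-- The fibre local ring does not depend on the name of the base point. -/
theorem ringKrullDim_fiberStalk_eq (f : X ⟶ S) (y : X) (s : S) (hs : f y = s) (w : ↥(f.fiber s))
    (hw : f.fiberι s w = y) :
    ringKrullDim (CInt.fiberStalk f y) = ringKrullDim ((f.fiber s).presheaf.stalk w) := by
  obtain ⟨e₁⟩ := Triage.CMMor.exists_equiv_fibre_stalk_aux f y s hs w hw
  obtain ⟨e₂⟩ := Triage.CMMor.exists_equiv_fibre_stalk_aux f y (f y) rfl (f.asFiber y) (f.fiberι_asFiber y)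
  subst hs
  exact (ringKrullDim_eq_of_ringEquiv e₂).symm.trans (ringKrullDim_eq_of_ringEquiv e₁)

theorem two_unit_smul {T : Type u} [CommRing T] {r₁ r₂ v₁ v₂ : T} (hv₁ : IsUnit v₁) (hv₂ : IsUnit v₂)
    (h : IsWeaklyRegular T [r₁, r₂]) : IsWeaklyRegular T [r₁ * v₁, r₂ * v₂] := by
  have hmulreg : ∀ {N : Type u} [AddCommGroup N] [Module T N] (r v : T), IsUnit v → IsSMulRegular N r →
      IsSMulRegular N (r * v) := fun r v hv hr a b hab => by
    simp only [mul_smul] at hab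
    exact hv.isSMulRegular _ (hr hab)
  rw [isWeaklyRegular_cons_iff, isWeaklyRegular_singleton_iff] at h ⊢
  have key : ∀ N N' : Submodule T T, N = N' → IsSMulRegular (T ⧸ N) r₂ → IsSMulRegular (T ⧸ N') (r₂ * v₂) := by
    rintro N N' rfl hN
    exact hmulreg r₂ v₂ hv₂ hN
  refine ⟨hmulreg r₁ v₁ hv₁ h.1, key _ _ ?_ h.2⟩
  rw [← Submodule.ideal_span_singleton_smul, ← Submodule.ideal_span_singleton_smul,
    Ideal.span_singleton_mul_right_unit hv₁ r₁]

/-- Two sections through the complement of `U` forming a regular sequence near a point. -/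
theorem exists_pair (f : X ⟶ S) [Smooth f] (U : X.Opens)
    (hU : ∀ x : X, x ∉ U → (2 : WithBot ℕ∞) ≤ ringKrullDim (CInt.fiberStalk f x))
    (z : X) (hz : z ∉ U) (W₀ : X.Opens) (hzW₀ : z ∈ W₀) :
    ∃ (W : X.Opens) (_ : IsAffineOpen W) (_ : z ∈ W) (g₁ g₂ : Γ(X, W)), W ≤ W₀ ∧
      IsWeaklyRegular Γ(X, W) [g₁, g₂] ∧ X.basicOpen g₁ ≤ U ∧ X.basicOpen g₂ ≤ U := by
  obtain ⟨_, ⟨W, hW, rfl⟩, hzW, hWW₀⟩ :=
    X.isBasis_affineOpens.exists_subset_of_mem_open (u := (W₀ : Set X)) hzW₀ W₀.isOpen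
  let A : Type u := Γ(X, W)
  let C : Set (PrimeSpectrum A) := hW.fromSpec ⁻¹' (U : Set X)ᶜ
  have hC : IsClosed C := U.isOpen.isClosed_compl.preimage hW.fromSpec.continuous
  let I : Ideal A := PrimeSpectrum.vanishingIdeal C
  have hIC : PrimeSpectrum.zeroLocus (I : Set A) = C := by
    rw [PrimeSpectrum.zeroLocus_vanishingIdeal_eq_closure, hC.closure_eq]
  let w₀ := f.asFiber z
  haveI : Smooth (f.fiberToSpecResidueField (f z)) :=
    MorphismProperty.pullback_snd (P := @Smooth) _ _ inferInstance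
  let T : Type u := CInt.fiberStalk f z
  haveI : IsRegularLocalRing T :=
    GrpSchLib.isRegularLocalRing_stalk_of_smooth (f.fiberToSpecResidueField (f z)) w₀
  haveI := CplFib6.isRegularRing_of_local T
  let ι := f.fiberι (f z)
  have hιw : ι w₀ = z := f.fiberι_asFiber z
  obtain ⟨e⟩ := Triage.CMMor.exists_equiv_fibre_stalk f z
  let O : Type u := X.presheaf.stalk z
  letI := X.presheaf.algebra_section_stalk (⟨z, hzW⟩ : W)
  haveI := hW.isLocalization_stalk ⟨z, hzW⟩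
  have hzW' : ι w₀ ∈ W := by rw [hιw]; exact hzW
  let σ : X.presheaf.stalk (ι w₀) →+* T := (ι.stalkMap w₀).hom
  let ψ : A →+* T := σ.comp (X.presheaf.germ W (ι w₀) hzW').hom
  have hprimes : ∀ Q : Ideal T, Q.IsPrime → I.map ψ ≤ Q → (2 : WithBot ℕ∞) ≤ (Q.height : WithBot ℕ∞) := by
    intro Q hQ hIQ
    let w' : ↥(f.fiber (f z)) := (f.fiber (f z)).fromSpecStalk w₀ ⟨Q, hQ⟩
    let y : X := ι w'
    have hy : y = hW.fromSpec ⟨Q.comap ψ, Ideal.IsPrime.comap _⟩ := by
      show ((f.fiber (f z)).fromSpecStalk w₀ ≫ ι) ⟨Q, hQ⟩ = _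
      rw [← Scheme.SpecMap_stalkMap_fromSpecStalk, ← hW.fromSpecStalk_eq_fromSpecStalk hzW']
      rfl
    have hyU : y ∉ U := by
      have : (⟨Q.comap ψ, Ideal.IsPrime.comap _⟩ : PrimeSpectrum A) ∈ C := by
        rw [← hIC]
        exact Ideal.map_le_iff_le_comap.1 hIQ
      rw [hy]
      exact this
    have hfy : f y = f z := FlatDvr.fiberι_apply_eq f w'
    have hd := hU y hyU
    rw [ringKrullDim_fiberStalk_eq f y (f z) hfy w' rfl, ringKrullDim_stalk_eq_coheight,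
      BlowUpX.coheight_fromSpecStalk, ← PrimeSpectrum.height_eq_orderHeight] at hd
    exact hd
  have hdepth : (2 : ℕ∞) ≤ LocCoh.idealDepth (I.map ψ) T := by
    rw [LC.idealDepth_eq_iInf_depth]
    refine le_iInf₂ fun Q hQ => ?_
    rw [LC.depth_localized_regular]
    exact WithBot.coe_le_coe.1 (hprimes Q.asIdeal Q.2 hQ)
  have hIne : I.map ψ • (⊤ : Submodule T T) ≠ ⊤ := by
    rw [Ideal.smul_eq_mul, Ideal.mul_top]
    intro htop
    have hzC : (⟨(maximalIdeal T).comap ψ, Ideal.IsPrime.comap _⟩ : PrimeSpectrum A) ∈ C := by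
      show hW.fromSpec _ ∉ U
      have : hW.fromSpec ⟨(maximalIdeal T).comap ψ, Ideal.IsPrime.comap _⟩ =
          ((f.fiber (f z)).fromSpecStalk w₀ ≫ ι) (closedPoint T) := by
        rw [← Scheme.SpecMap_stalkMap_fromSpecStalk, ← hW.fromSpecStalk_eq_fromSpecStalk hzW']
        rfl
      rw [this]
      show ι ((f.fiber (f z)).fromSpecStalk w₀ (closedPoint T)) ∉ U
      rw [Scheme.fromSpecStalk_closedPoint, hιw]
      exact hz
    rw [← hIC] at hzC
    exact (maximalIdeal.isMaximal T).ne_top (top_le_iff.1 (htop.ge.trans (Ideal.map_le_iff_le_comap.2 hzC)))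
  obtain ⟨rs, hrs, hmem, hlen⟩ := Alg6.exists_length_ge_of_le_idealDepth hIne hdepth
  obtain ⟨r₁, r₂, rest, rfl⟩ : ∃ r₁ r₂ rest, rs = r₁ :: r₂ :: rest := by
    match rs, hlen with
    | [], h => simp at h
    | [_], h => simp at h
    | r₁ :: r₂ :: rest, _ => exact ⟨r₁, r₂, rest, rfl⟩
  have h12 : IsWeaklyRegular T [r₁, r₂] := by
    have h := hrs
    rw [isWeaklyRegular_cons_iff, isWeaklyRegular_cons_iff] at h
    rw [isWeaklyRegular_cons_iff, isWeaklyRegular_cons_iff]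
    exact ⟨h.1, h.2.1, IsWeaklyRegular.nil _ _⟩
  letI : Algebra A (X.presheaf.stalk (ι w₀)) := (X.presheaf.germ W (ι w₀) hzW').hom.toAlgebra
  haveI := hW.isLocalization_stalk ⟨ι w₀, hzW'⟩
  have hclear : ∀ r ∈ I.map ψ, ∃ a ∈ I, ∃ v : T, IsUnit v ∧ ψ a = r * v := by
    intro r hr
    have hσ : Function.Surjective σ := ι.stalkMap_surjective w₀
    have h1 : r ∈ (I.map (algebraMap A (X.presheaf.stalk (ι w₀)))).map σ := by
      rw [Ideal.map_map]
      exact hr
    obtain ⟨o, ho, rfl⟩ := (Ideal.mem_map_iff_of_surjective σ hσ).1 h1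
    obtain ⟨⟨⟨a, ha⟩, c⟩, hac⟩ := (IsLocalization.mem_map_algebraMap_iff
      (hW.primeIdealOf ⟨ι w₀, hzW'⟩).asIdeal.primeCompl (X.presheaf.stalk (ι w₀))).1 ho
    exact ⟨a, ha, σ (algebraMap A (X.presheaf.stalk (ι w₀)) c),
      (IsLocalization.map_units (X.presheaf.stalk (ι w₀)) c).map σ, by rw [← map_mul, hac]; rfl⟩
  obtain ⟨a₁, ha₁, v₁, hv₁, e₁⟩ := hclear r₁ (hmem r₁ List.mem_cons_self)
  obtain ⟨a₂, ha₂, v₂, hv₂, e₂⟩ := hclear r₂ (hmem r₂ (List.mem_cons_of_mem _ List.mem_cons_self))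
  have hreg : IsWeaklyRegular T [ψ a₁, ψ a₂] := by rw [e₁, e₂]; exact two_unit_smul hv₁ hv₂ h12
  have hbasic : ∀ a ∈ I, X.basicOpen a ≤ U := by
    intro a ha x hx
    by_contra hxU
    have hxW : x ∈ W := X.basicOpen_le a hx
    obtain ⟨q, rfl⟩ : ∃ q, hW.fromSpec q = x := by
      have : x ∈ Set.range hW.fromSpec := by rw [hW.range_fromSpec]; exact hxW
      exact this
    have hqI : a ∈ q.asIdeal := by
      have : q ∈ C := hxU
      rw [← hIC] at this
      exact this ha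
    have : q ∈ PrimeSpectrum.basicOpen a := by
      rw [← hW.fromSpec_preimage_basicOpen a]
      exact hx
    exact this hqI
  -- lift to a slice
  have key : ∀ (x : X) (hxW : x ∈ W) (w : ↥(f.fiber (f z))) (hw : f.fiberι (f z) w = x) (hwW : f.fiberι (f z) w ∈ W)
      (hs : f x = f z), IsWeaklyRegular ((f.fiber (f z)).presheaf.stalk w)
        [((f.fiberι (f z)).stalkMap w).hom (X.presheaf.germ W (f.fiberι (f z) w) hwW a₁),
         ((f.fiberι (f z)).stalkMap w).hom (X.presheaf.germ W (f.fiberι (f z) w) hwW a₂)] →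
      ∀ i (hi : i < 2), ∀ y, [X.presheaf.germ W x hxW a₁, X.presheaf.germ W x hxW a₂][i] * y ∈
          Ideal.ofList ([X.presheaf.germ W x hxW a₁, X.presheaf.germ W x hxW a₂].take i) ⊔
            (maximalIdeal (S.presheaf.stalk (f x))).map (f.stalkMap x).hom →
        y ∈ Ideal.ofList ([X.presheaf.germ W x hxW a₁, X.presheaf.germ W x hxW a₂].take i) ⊔
            (maximalIdeal (S.presheaf.stalk (f x))).map (f.stalkMap x).hom := by
    intro x hxW w hw hwW hs hr i hi y hy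
    subst hw
    let σ' : X.presheaf.stalk (f.fiberι (f z) w) →+* (f.fiber (f z)).presheaf.stalk w :=
      ((f.fiberι (f z)).stalkMap w).hom
    have hσ' : Function.Surjective σ' := (f.fiberι (f z)).stalkMap_surjective w
    have hker : RingHom.ker σ' =
        (maximalIdeal (S.presheaf.stalk (f (f.fiberι (f z) w)))).map (f.stalkMap (f.fiberι (f z) w)).hom :=
      FlatDvr.ker_stalkMap_fiberι f w
    let hs' : List (X.presheaf.stalk (f.fiberι (f z) w)) :=
      [X.presheaf.germ W (f.fiberι (f z) w) hxW a₁, X.presheaf.germ W (f.fiberι (f z) w) hxW a₂]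
    have h0 := hr.regular_mod_prev i (by simpa using hi)
    have hI : ∀ v, Submodule.Quotient.mk (p := (Ideal.ofList ((hs'.map σ').take i) • ⊤ :
        Submodule ((f.fiber (f z)).presheaf.stalk w) ((f.fiber (f z)).presheaf.stalk w))) (σ' v) = 0 ↔
        v ∈ Ideal.ofList (hs'.take i) ⊔ RingHom.ker σ' := by
      intro v
      rw [Submodule.Quotient.mk_eq_zero, Ideal.smul_eq_mul, Ideal.mul_top, ← List.map_take,
        ← Ideal.map_ofList, ← Ideal.mem_comap, Ideal.comap_map_of_surjective _ hσ',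
        ← RingHom.ker_eq_comap_bot]
    rw [← hker] at hy ⊢
    refine (hI y).1 ?_
    refine h0.right_eq_zero_of_smul ?_
    rw [← Submodule.Quotient.mk_smul]
    have : (hs'.map σ')[i]'(by simpa [hs'] using hi) = σ' (hs'[i]'(by simpa [hs'] using hi)) := List.getElem_map ..
    show Submodule.Quotient.mk ((hs'.map σ')[i]'(by simpa [hs'] using hi) * σ' y) = 0
    rw [this, ← map_mul]
    exact (hI _).2 hy
  have hkey := key z hzW w₀ hιw hzW' rfl hreg
  let hs : List (X.presheaf.stalk z) := [X.presheaf.germ W z hzW a₁, X.presheaf.germ W z hzW a₂]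
  have hm : ∀ h ∈ hs, h ∈ maximalIdeal (X.presheaf.stalk z) := by
    have haux : ∀ a ∈ I, X.presheaf.germ W z hzW a ∈ maximalIdeal (X.presheaf.stalk z) := fun a ha hu =>
      hz (hbasic a ha ((X.mem_basicOpen a z hzW).2 hu))
    intro h hh
    simp only [hs, List.mem_cons, List.not_mem_nil, or_false] at hh
    rcases hh with rfl | rfl
    · exact haux a₁ ha₁
    · exact haux a₂ ha₂
  obtain ⟨V, hV, U', hU', hz', hU'W, -, hs', hgerm, -, hwr, -⟩ :=
    Triage.SliceFlat.exists_slice_sch f z (Flat.stalkMap f z) hs hm (fun i hi y hy => hkey i hi y hy) W hzW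
  obtain ⟨b₁, b₂, rfl⟩ : ∃ b₁ b₂, hs' = [b₁, b₂] := by
    have hl := congrArg List.length hgerm
    rw [List.length_map] at hl
    rcases hs' with _ | ⟨b₁, _ | ⟨b₂, _ | _⟩⟩ <;> simp [hs] at hl
    exact ⟨b₁, b₂, rfl⟩
  simp only [hs, List.map_cons, List.map_nil, List.cons.injEq, and_true] at hgerm
  obtain ⟨hg₁, hg₂⟩ := hgerm
  have hres : ∀ a : A, X.presheaf.germ U' z hz' (X.presheaf.map (homOfLE hU'W).op a) = X.presheaf.germ W z hzW a :=
    fun a => X.presheaf.germ_res_apply (homOfLE hU'W) z hz' a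
  rw [← hres a₁] at hg₁
  rw [← hres a₂] at hg₂
  obtain ⟨V₁, hzV₁, i₁, i₁', hV₁⟩ := X.presheaf.germ_eq z hz' hz' _ _ hg₁
  obtain ⟨V₂, hzV₂, i₂, i₂', hV₂⟩ := X.presheaf.germ_eq z hz' hz' _ _ hg₂
  obtain ⟨h, hhle, hzh⟩ := hU'.exists_basicOpen_le (⟨z, ⟨hzV₁, hzV₂⟩⟩ : (V₁ ⊓ V₂ : X.Opens)) hz'
  let W₁ := X.basicOpen h
  have hW₁U' : W₁ ≤ U' := X.basicOpen_le h
  letI : Algebra Γ(X, U') Γ(X, W₁) := (X.presheaf.map (homOfLE hW₁U').op).hom.toAlgebra
  haveI : IsLocalization.Away h Γ(X, W₁) := hU'.isLocalization_basicOpen h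
  have hwr₁ : IsWeaklyRegular Γ(X, W₁) ([b₁, b₂].map (algebraMap Γ(X, U') Γ(X, W₁))) :=
    hwr.of_isLocalizedModule Γ(X, W₁) (Submonoid.powers h) (Algebra.linearMap Γ(X, U') Γ(X, W₁))
  have hb : ∀ (b : Γ(X, U')) (a : A) (V : X.Opens) (i i' : V ⟶ U') (hW₁V : W₁ ≤ V),
      X.presheaf.map i.op b = X.presheaf.map i'.op (X.presheaf.map (homOfLE hU'W).op a) →
      X.basicOpen a ≤ U → X.basicOpen (algebraMap Γ(X, U') Γ(X, W₁) b) ≤ U := by
    intro b a V i i' hW₁V hab hle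
    have h1 : algebraMap Γ(X, U') Γ(X, W₁) b = X.presheaf.map (homOfLE (hW₁U'.trans hU'W)).op a := by
      show X.presheaf.map (homOfLE hW₁U').op b = _
      rw [show homOfLE hW₁U' = homOfLE hW₁V ≫ i from Subsingleton.elim _ _, op_comp, Functor.map_comp,
        CommRingCat.comp_apply, hab, ← CommRingCat.comp_apply, ← Functor.map_comp, ← CommRingCat.comp_apply,
        ← Functor.map_comp]
      rfl
    rw [h1, Scheme.basicOpen_res]
    exact inf_le_right.trans hle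
  exact ⟨W₁, hU'.basicOpen h, hzh, _, _, (hW₁U'.trans hU'W).trans hWW₀, hwr₁,
    hb b₁ a₁ V₁ i₁ i₁' (hhle.trans inf_le_left) hV₁ (hbasic a₁ ha₁),
    hb b₂ a₂ V₂ i₂ i₂' (hhle.trans inf_le_right) hV₂ (hbasic a₂ ha₂)⟩

/-- A regular pair divides. -/
theorem exists_eq_pow_mul {A : Type u} [CommRing A] {g₁ g₂ : A} (h : IsWeaklyRegular A [g₁, g₂]) :
    ∀ (n k : ℕ) (a b : A), g₂ ^ k * a = g₁ ^ n * b → ∃ c, a = g₁ ^ n * c := by
  rw [isWeaklyRegular_cons_iff, isWeaklyRegular_singleton_iff] at h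
  obtain ⟨h1, h2⟩ := h
  intro n
  induction n with
  | zero => intro k a b _; exact ⟨a, by rw [pow_zero, one_mul]⟩
  | succ n ih =>
    intro k a b hab
    have ha : a ∈ g₁ • (⊤ : Submodule A A) := by
      rw [← Submodule.Quotient.mk_eq_zero]
      refine (h2.pow k).right_eq_zero_of_smul ?_
      rw [← Submodule.Quotient.mk_smul, Submodule.Quotient.mk_eq_zero, smul_eq_mul, hab]
      exact (Submodule.mem_smul_pointwise_iff_exists _ _ _).2 ⟨g₁ ^ n * b, trivial, by rw [smul_eq_mul]; ring⟩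
    obtain ⟨a', -, rfl⟩ := (Submodule.mem_smul_pointwise_iff_exists _ _ _).1 ha
    obtain ⟨c, rfl⟩ := ih k a' b (h1 (by
      show g₁ • (g₂ ^ k * a') = g₁ • (g₁ ^ n * b)
      rw [smul_eq_mul, smul_eq_mul, ← mul_assoc g₁ (g₁ ^ n), ← pow_succ', ← hab, smul_eq_mul]
      ring))
    exact ⟨c, by rw [smul_eq_mul]; ring⟩

/-- Sections extend over an affine open with a regular pair through the complement. -/
theorem exists_extension (W : X.Opens) (hW : IsAffineOpen W) (U : X.Opens) (g₁ g₂ : Γ(X, W))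
    (hreg : IsWeaklyRegular Γ(X, W) [g₁, g₂]) (h₁ : X.basicOpen g₁ ≤ U) (h₂ : X.basicOpen g₂ ≤ U)
    (σ : Γ(X, W ⊓ U)) : ∃ c : Γ(X, W), X.presheaf.map (homOfLE (inf_le_left : W ⊓ U ≤ W)).op c = σ := by
  have hg₁reg : IsSMulRegular Γ(X, W) g₁ := ((isWeaklyRegular_cons_iff _ g₁ [g₂]).1 hreg).1
  have hle : ∀ g : Γ(X, W), X.basicOpen g ≤ U → X.basicOpen g ≤ W ⊓ U := fun g hg => le_inf (X.basicOpen_le g) hg
  let r (g : Γ(X, W)) (hg : X.basicOpen g ≤ U) : Γ(X, X.basicOpen g) := X.presheaf.map (homOfLE (hle g hg)).op σ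
  have hsurj : ∀ (g : Γ(X, W)) (hg : X.basicOpen g ≤ U), ∃ (a : Γ(X, W)) (n : ℕ),
      r g hg * X.presheaf.map (homOfLE (X.basicOpen_le g)).op (g ^ n) =
        X.presheaf.map (homOfLE (X.basicOpen_le g)).op a := by
    intro g hg
    letI : Algebra Γ(X, W) Γ(X, X.basicOpen g) := (X.presheaf.map (homOfLE (X.basicOpen_le g)).op).hom.toAlgebra
    haveI : IsLocalization.Away g Γ(X, X.basicOpen g) := hW.isLocalization_basicOpen g
    obtain ⟨⟨a, ⟨_, n, rfl⟩⟩, h⟩ := IsLocalization.surj (Submonoid.powers g) (r g hg)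
    exact ⟨a, n, h⟩
  obtain ⟨a, n, ha⟩ := hsurj g₁ h₁
  obtain ⟨b, m, hb⟩ := hsurj g₂ h₂
  let W₁₂ := X.basicOpen (g₁ * g₂)
  have h12₁ : W₁₂ ≤ X.basicOpen g₁ := by rw [show W₁₂ = _ from X.basicOpen_mul g₁ g₂]; exact inf_le_left
  have h12₂ : W₁₂ ≤ X.basicOpen g₂ := by rw [show W₁₂ = _ from X.basicOpen_mul g₁ g₂]; exact inf_le_right
  let ρ := (X.presheaf.map (homOfLE (X.basicOpen_le (g₁ * g₂))).op).hom
  let τ : Γ(X, W₁₂) := X.presheaf.map (homOfLE (h12₁.trans (hle g₁ h₁))).op σ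
  have hmul : ∀ {V V' : X.Opens} (i : V' ⟶ V) (x y : Γ(X, V)),
      X.presheaf.map i.op (x * y) = X.presheaf.map i.op x * X.presheaf.map i.op y := fun i x y => map_mul _ x y
  have ea : τ * ρ (g₁ ^ n) = ρ a := by
    have h := congrArg (X.presheaf.map (homOfLE h12₁).op) ha
    simp only [r, hmul, ← CommRingCat.comp_apply, ← Functor.map_comp, ← op_comp, homOfLE_comp] at h
    exact h
  have eb : τ * ρ (g₂ ^ m) = ρ b := by
    have h := congrArg (X.presheaf.map (homOfLE h12₂).op) hb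
    simp only [r, hmul, ← CommRingCat.comp_apply, ← Functor.map_comp, ← op_comp, homOfLE_comp] at h
    exact h
  have e0 : ρ (a * g₂ ^ m) = ρ (b * g₁ ^ n) := by rw [map_mul, map_mul, ← ea, ← eb]; ring
  letI : Algebra Γ(X, W) Γ(X, W₁₂) := ρ.toAlgebra
  haveI : IsLocalization.Away (g₁ * g₂) Γ(X, W₁₂) := hW.isLocalization_basicOpen (g₁ * g₂)
  obtain ⟨⟨_, N, rfl⟩, hN⟩ := IsLocalization.exists_of_eq (M := Submonoid.powers (g₁ * g₂)) e0
  have hN' : g₂ ^ N * (a * g₂ ^ m) = g₂ ^ N * (b * g₁ ^ n) := by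
    refine (hg₁reg.pow N) ?_
    simp only [smul_eq_mul] at hN ⊢
    calc g₁ ^ N * (g₂ ^ N * (a * g₂ ^ m)) = (g₁ * g₂) ^ N * (a * g₂ ^ m) := by ring
      _ = (g₁ * g₂) ^ N * (b * g₁ ^ n) := hN
      _ = g₁ ^ N * (g₂ ^ N * (b * g₁ ^ n)) := by ring
  obtain ⟨c, rfl⟩ := exists_eq_pow_mul hreg n (N + m) a (g₂ ^ N * b) (by
    calc g₂ ^ (N + m) * a = g₂ ^ N * (a * g₂ ^ m) := by ring
      _ = g₂ ^ N * (b * g₁ ^ n) := hN'
      _ = g₁ ^ n * (g₂ ^ N * b) := by ring)
  refine ⟨c, TopCat.Presheaf.section_ext X.sheaf _ _ _ fun y hy => ?_⟩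
  show X.presheaf.germ (W ⊓ U) y hy _ = X.presheaf.germ (W ⊓ U) y hy σ
  rw [X.presheaf.germ_res_apply (homOfLE (inf_le_left : W ⊓ U ≤ W)) y hy c]
  let d : X.presheaf.stalk y := X.presheaf.germ W y hy.1 c - X.presheaf.germ (W ⊓ U) y hy σ
  have hr : IsSMulRegular (X.presheaf.stalk y) (X.presheaf.germ W y hy.1 g₁) := by
    letI := X.presheaf.algebra_section_stalk (⟨y, hy.1⟩ : W)
    haveI := hW.isLocalization_stalk ⟨y, hy.1⟩
    have h := hreg.of_isLocalizedModule (X.presheaf.stalk y) (hW.primeIdealOf ⟨y, hy.1⟩).asIdeal.primeCompl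
      (Algebra.linearMap Γ(X, W) (X.presheaf.stalk y))
    exact ((isWeaklyRegular_cons_iff _ _ _).1 h).1
  obtain ⟨V', ⟨hV'aff, hV'⟩, hyV', hV'le⟩ : ∃ V' : X.Opens, (IsAffineOpen V' ∧ V' ≤ W ⊓ U) ∧ y ∈ V' ∧ True := by
    obtain ⟨_, ⟨V', hV', rfl⟩, hyV', hle'⟩ :=
      X.isBasis_affineOpens.exists_subset_of_mem_open (u := ((W ⊓ U : X.Opens) : Set X)) hy (W ⊓ U).isOpen
    exact ⟨V', ⟨hV', hle'⟩, hyV', trivial⟩
  let e : Γ(X, V') := X.presheaf.map (homOfLE (hV'.trans inf_le_left)).op c - X.presheaf.map (homOfLE hV').op σ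
  let g' : Γ(X, V') := X.presheaf.map (homOfLE (hV'.trans inf_le_left)).op g₁
  have hg' : X.basicOpen g' ≤ X.basicOpen g₁ := by
    rw [Scheme.basicOpen_res]; exact inf_le_right
  have he : X.presheaf.map (homOfLE (X.basicOpen_le g')).op (g' ^ n * e) = 0 := by
    have h := congrArg (X.presheaf.map (homOfLE hg').op) ha
    simp only [r, hmul, ← CommRingCat.comp_apply, ← Functor.map_comp, ← op_comp, homOfLE_comp] at h
    simp only [e, g', mul_sub, map_sub, hmul, map_pow, ← CommRingCat.comp_apply, ← Functor.map_comp,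
      ← op_comp, homOfLE_comp] at h ⊢
    rw [← h]
    ring
  letI : Algebra Γ(X, V') Γ(X, X.basicOpen g') := (X.presheaf.map (homOfLE (X.basicOpen_le g')).op).hom.toAlgebra
  haveI : IsLocalization.Away g' Γ(X, X.basicOpen g') := hV'aff.isLocalization_basicOpen g'
  obtain ⟨⟨_, M, rfl⟩, hM⟩ := (IsLocalization.map_eq_zero_iff (Submonoid.powers g') Γ(X, X.basicOpen g') _).1 he
  have hM' : g' ^ (M + n) * e = 0 := by rw [pow_add, mul_assoc]; exact hM
  have := congrArg (X.presheaf.germ V' y hyV') hM'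
  rw [map_zero, map_mul, map_pow] at this
  simp only [e, g', map_sub, X.presheaf.germ_res_apply] at this
  exact sub_eq_zero.1 ((hr.pow (M + n)).right_eq_zero_of_smul this)

end Groth.Agent.RhoSh6
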