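import Groth.Agent.RhoSh6.Extend

/-!
# Extending sections of affine morphisms across subsets of relative codimension two
-/

set_option autoImplicit false
set_option linter.style.haveILetI false
set_option backward.isDefEq.respectTransparency false
set_option backward.isDefEq.respectTransparency.types false

universe u

open AlgebraicGeometry CategoryTheory CategoryTheory.Limits IsLocalRing TopologicalSpace

namespace Groth.Agent.RhoSh6

variable {X S : Scheme.{u}}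

/-- The affine opens over which all sections extend form a basis. -/
theorem exists_good_affine (f : X ⟶ S) [Smooth f] (U : X.Opens)
    (hU : ∀ x : X, x ∉ U → (2 : WithBot ℕ∞) ≤ ringKrullDim (CInt.fiberStalk f x))
    (z : X) (W₀ : X.Opens) (hz : z ∈ W₀) :
    ∃ W : X.Opens, IsAffineOpen W ∧ z ∈ W ∧ W ≤ W₀ ∧
      Function.Bijective (X.presheaf.map (homOfLE (inf_le_left : W ⊓ U ≤ W)).op) := by
  have hdense : CInt.IsSchematicallyDense U := by
    refine isSchematicallyDense_of_exists_regular U fun x hx => ?_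
    obtain ⟨hs, hl, h1, h2⟩ := le_depth_of_smooth f x 2 (by exact_mod_cast hU x hx)
    cases hs with
    | nil => simp at hl
    | cons r rs => exact ⟨r, h2 r List.mem_cons_self, ((RingTheory.Sequence.isWeaklyRegular_cons_iff _ r rs).1 h1).1⟩
  by_cases hzU : z ∈ U
  · obtain ⟨_, ⟨W, hW, rfl⟩, hzW, hle⟩ :=
      X.isBasis_affineOpens.exists_subset_of_mem_open (u := ((W₀ ⊓ U : X.Opens) : Set X)) ⟨hz, hzU⟩ (W₀ ⊓ U).isOpen
    refine ⟨W, hW, hzW, fun x hx => (hle hx).1, hdense W, fun σ => ?_⟩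
    refine ⟨X.presheaf.map (homOfLE (le_inf le_rfl fun x hx => (hle hx).2 : W ≤ W ⊓ U)).op σ, ?_⟩
    rw [← CommRingCat.comp_apply, ← Functor.map_comp, ← op_comp, homOfLE_comp]
    exact congrArg (fun φ : Γ(X, W ⊓ U) ⟶ Γ(X, W ⊓ U) => φ σ) (X.presheaf.map_id (Opposite.op (W ⊓ U)))
  · obtain ⟨W, hW, hzW, g₁, g₂, hle, hreg, h₁, h₂⟩ := exists_pair f U hU z hzU W₀ hz
    exact ⟨W, hW, hzW, hle, hdense W, exists_extension W hW U g₁ g₂ hreg h₁ h₂⟩

/-- Restriction along an inclusion of opens is bijective on global sections. -/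
theorem bijective_appTop_homOfLE {V W : X.Opens} (h : V ≤ W)
    (hb : Function.Bijective (X.presheaf.map (homOfLE h).op)) :
    IsIso (X.homOfLE h).appTop := by
  haveI : IsIso (X.presheaf.map (homOfLE h).op) := (ConcreteCategory.isIso_iff_bijective _).2 hb
  have : (X.homOfLE h).appTop = W.topIso.hom ≫ X.presheaf.map (homOfLE h).op ≫ V.topIso.inv := by
    rw [Scheme.homOfLE_appTop]
    simp only [Scheme.Opens.topIso, Functor.mapIso_hom, Functor.mapIso_inv, Iso.op_hom, Iso.op_inv, eqToIso.hom,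
      eqToIso.inv, ← Functor.map_comp, eqToHom_op]
    rfl
  rw [this]
  infer_instance

section

variable {Y : Scheme.{u}} (p : Y ⟶ X) (U : X.Opens) (s : (U : Scheme.{u}) ⟶ Y)

/-- A map over an open immersion which agrees with the given section over `U`. -/
def Ext {Q : Scheme.{u}} (j : Q ⟶ X) (t : Q ⟶ Y) : Prop :=
  t ≫ p = j ∧ ∀ (R : Scheme.{u}) (r : R ⟶ Q) (r' : R ⟶ (U : Scheme.{u})), r ≫ j = r' ≫ U.ι → r ≫ t = r' ≫ s

theorem Ext.comp {Q Q' : Scheme.{u}} {j : Q ⟶ X} {t : Q ⟶ Y} (h : Ext p U s j t) (k : Q' ⟶ Q) :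
    Ext p U s (k ≫ j) (k ≫ t) :=
  ⟨by rw [Category.assoc, h.1], fun R r r' hr => by
    rw [← Category.assoc]
    exact h.2 R (r ≫ k) r' (by rw [Category.assoc]; exact hr)⟩

end

variable {Y : Scheme.{u}} (p : Y ⟶ X) [IsAffineHom p] (U : X.Opens) (s : (U : Scheme.{u}) ⟶ Y)

/-- Maps from a good affine open are determined on its intersection with `U`. -/
theorem hom_ext_good (W : X.Opens) (hW : IsAffineOpen W)
    (hb : Function.Bijective (X.presheaf.map (homOfLE (inf_le_left : W ⊓ U ≤ W)).op))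
    (t t' : (W : Scheme.{u}) ⟶ Y) (ht : Ext p U s W.ι t) (ht' : Ext p U s W.ι t') : t = t' := by
  haveI : IsAffine ((p ⁻¹ᵁ W : Y.Opens) : Scheme.{u}) := hW.preimage p
  have hrange : ∀ {u : (W : Scheme.{u}) ⟶ Y}, u ≫ p = W.ι → Set.range u ⊆ Set.range (p ⁻¹ᵁ W).ι := by
    intro u hu
    rw [Scheme.Opens.range_ι]
    rintro _ ⟨x, rfl⟩
    show (u ≫ p) x ∈ W
    rw [hu]
    exact x.2
  let T := IsOpenImmersion.lift (p ⁻¹ᵁ W).ι t (hrange ht.1)
  let T' := IsOpenImmersion.lift (p ⁻¹ᵁ W).ι t' (hrange ht'.1)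
  have e : T = T' := by
    haveI := bijective_appTop_homOfLE (inf_le_left : W ⊓ U ≤ W) hb
    have h0 : X.homOfLE (inf_le_left : W ⊓ U ≤ W) ≫ T = X.homOfLE (inf_le_left : W ⊓ U ≤ W) ≫ T' := by
      rw [← cancel_mono (p ⁻¹ᵁ W).ι, Category.assoc, Category.assoc, IsOpenImmersion.lift_fac,
        IsOpenImmersion.lift_fac]
      have hc : X.homOfLE (inf_le_left : W ⊓ U ≤ W) ≫ W.ι = X.homOfLE (inf_le_right : W ⊓ U ≤ U) ≫ U.ι := by
        rw [X.homOfLE_ι, X.homOfLE_ι]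
      rw [ht.2 _ _ _ hc, ht'.2 _ _ _ hc]
    refine ext_of_isAffine ?_
    have h1 := congrArg Scheme.Hom.appTop h0
    rw [Scheme.Hom.comp_appTop, Scheme.Hom.comp_appTop] at h1
    exact (cancel_mono (X.homOfLE (inf_le_left : W ⊓ U ≤ W)).appTop).1 h1
  rw [← IsOpenImmersion.lift_fac (p ⁻¹ᵁ W).ι t (hrange ht.1),
    ← IsOpenImmersion.lift_fac (p ⁻¹ᵁ W).ι t' (hrange ht'.1)]
  exact congrArg (· ≫ (p ⁻¹ᵁ W).ι) e

/-- A section over `U` extends over a good affine open. -/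
theorem exists_ext_good (hs : s ≫ p = U.ι) (W : X.Opens) (hW : IsAffineOpen W)
    (hb : Function.Bijective (X.presheaf.map (homOfLE (inf_le_left : W ⊓ U ≤ W)).op)) :
    ∃ t : (W : Scheme.{u}) ⟶ Y, Ext p U s W.ι t := by
  haveI : IsAffine ((p ⁻¹ᵁ W : Y.Opens) : Scheme.{u}) := hW.preimage p
  haveI : IsAffine (W : Scheme.{u}) := hW
  haveI := bijective_appTop_homOfLE (inf_le_left : W ⊓ U ≤ W) hb
  let j := X.homOfLE (inf_le_left : W ⊓ U ≤ W)
  let s₀ : ((W ⊓ U : X.Opens) : Scheme.{u}) ⟶ Y := X.homOfLE (inf_le_right : W ⊓ U ≤ U) ≫ s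
  have hs₀ : s₀ ≫ p = (W ⊓ U).ι := by rw [Category.assoc, hs, X.homOfLE_ι]
  have hr : Set.range s₀ ⊆ Set.range (p ⁻¹ᵁ W).ι := by
    rw [Scheme.Opens.range_ι]
    rintro _ ⟨x, rfl⟩
    show (s₀ ≫ p) x ∈ W
    rw [hs₀]
    exact x.2.1
  let S₀ := IsOpenImmersion.lift (p ⁻¹ᵁ W).ι s₀ hr
  -- the affine map with the same sections
  obtain ⟨T, hT⟩ : ∃ T : (W : Scheme.{u}) ⟶ ((p ⁻¹ᵁ W : Y.Opens) : Scheme.{u}), T.appTop = S₀.appTop ≫ inv j.appTop := by
    refine ⟨(W : Scheme.{u}).toSpecΓ ≫ Spec.map (S₀.appTop ≫ inv j.appTop) ≫ (p ⁻¹ᵁ W : Y.Opens).toScheme.isoSpec.inv, ?_⟩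
    have h1 : ((W : Scheme.{u}).toSpecΓ ≫ Spec.map (S₀.appTop ≫ inv j.appTop)) =
        (W : Scheme.{u}).isoSpec.hom ≫ Spec.map (S₀.appTop ≫ inv j.appTop) := rfl
    have h2 : ∀ (A B : Scheme.{u}) [IsAffine A] [IsAffine B] (φ : Γ(B, ⊤) ⟶ Γ(A, ⊤)),
        (A.isoSpec.hom ≫ Spec.map φ ≫ B.isoSpec.inv).appTop = φ := by
      intro A B _ _ φ
      simp [Scheme.isoSpec]
    exact h2 _ _ _
  have hj : j ≫ T = S₀ := ext_of_isAffine (by rw [Scheme.Hom.comp_appTop, hT, Category.assoc, IsIso.inv_hom_id, Category.comp_id])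
  refine ⟨T ≫ (p ⁻¹ᵁ W).ι, ?_, fun R r r' hrr => ?_⟩
  · let q : ((p ⁻¹ᵁ W : Y.Opens) : Scheme.{u}) ⟶ (W : Scheme.{u}) := p ∣_ W
    have hq : (T ≫ q) = 𝟙 _ := by
      refine ext_of_isAffine ?_
      rw [← cancel_mono j.appTop, ← Scheme.Hom.comp_appTop, ← Scheme.Hom.comp_appTop, Category.comp_id,
        ← Category.assoc, hj]
      congr 1
      rw [← cancel_mono W.ι, Category.assoc, morphismRestrict_ι, ← Category.assoc, IsOpenImmersion.lift_fac, hs₀,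
        X.homOfLE_ι]
    rw [Category.assoc, ← morphismRestrict_ι, ← Category.assoc, hq, Category.id_comp]
  · have hk : Set.range (r ≫ W.ι) ⊆ Set.range (W ⊓ U).ι := by
      rw [Scheme.Opens.range_ι]
      rintro _ ⟨x, rfl⟩
      refine ⟨(r x).2, ?_⟩
      rw [hrr]
      exact (r' x).2
    let k := IsOpenImmersion.lift (W ⊓ U).ι (r ≫ W.ι) hk
    have hk1 : k ≫ j = r := by
      rw [← cancel_mono W.ι, Category.assoc, X.homOfLE_ι, IsOpenImmersion.lift_fac]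
    have hk2 : k ≫ X.homOfLE (inf_le_right : W ⊓ U ≤ U) = r' := by
      rw [← cancel_mono U.ι, Category.assoc, X.homOfLE_ι, IsOpenImmersion.lift_fac, hrr]
    rw [← Category.assoc, ← hk1, Category.assoc k, hj, Category.assoc, IsOpenImmersion.lift_fac, ← Category.assoc,
      hk2]

/-- A section of an affine morphism over a big open set extends uniquely. -/
theorem existsUnique_extension (f : X ⟶ S) [Smooth f]
    (hU : ∀ x : X, x ∉ U → (2 : WithBot ℕ∞) ≤ ringKrullDim (CInt.fiberStalk f x)) (hs : s ≫ p = U.ι) :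
    ∃! t : X ⟶ Y, t ≫ p = 𝟙 X ∧ U.ι ≫ t = s := by
  let ι₀ := {W : X.Opens // IsAffineOpen W ∧
    Function.Bijective (X.presheaf.map (homOfLE (inf_le_left : W ⊓ U ≤ W)).op)}
  have hgood := exists_good_affine f U hU
  have hcov : IsOpenCover fun W : ι₀ => W.1 := by
    refine eq_top_iff.2 fun x _ => ?_
    obtain ⟨W, hW, hxW, -, hb⟩ := hgood x ⊤ trivial
    exact Opens.mem_iSup.2 ⟨⟨W, hW, hb⟩, hxW⟩
  let 𝒰 := X.openCoverOfIsOpenCover (fun W : ι₀ => W.1) hcov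
  choose t ht using fun W : ι₀ => exists_ext_good p U s hs W.1 W.2.1 W.2.2
  -- two extensions over an open immersion agree
  have huniq : ∀ {Q : Scheme.{u}} (j : Q ⟶ X) [IsOpenImmersion j] (u u' : Q ⟶ Y),
      Ext p U s j u → Ext p U s j u' → u = u' := by
    intro Q j _ u u' hu hu'
    have hloc : ∀ q : Q, ∃ W : ι₀, j q ∈ W.1 ∧ W.1 ≤ j.opensRange := by
      intro q
      obtain ⟨W, hW, hqW, hle, hb⟩ := hgood (j q) j.opensRange ⟨q, rfl⟩
      exact ⟨⟨W, hW, hb⟩, hqW, hle⟩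
    choose W hqW hW using hloc
    have hcovQ : IsOpenCover fun q : Q => j ⁻¹ᵁ (W q).1 :=
      eq_top_iff.2 fun q _ => Opens.mem_iSup.2 ⟨q, hqW q⟩
    refine (Q.openCoverOfIsOpenCover _ hcovQ).hom_ext _ _ fun q => ?_
    have hrange : Set.range (W q).1.ι ⊆ Set.range j := by
      rw [Scheme.Opens.range_ι]
      exact hW q
    let k := IsOpenImmersion.lift j (W q).1.ι hrange
    have hk : Ext p U s (W q).1.ι (k ≫ u) ∧ Ext p U s (W q).1.ι (k ≫ u') := by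
      have h1 := hu.comp p U s k
      have h2 := hu'.comp p U s k
      rw [IsOpenImmersion.lift_fac] at h1 h2
      exact ⟨h1, h2⟩
    have e := hom_ext_good p U s (W q).1 (W q).2.1 (W q).2.2 _ _ hk.1 hk.2
    have hf : (j ∣_ (W q).1) ≫ k = (j ⁻¹ᵁ (W q).1).ι := by
      rw [← cancel_mono j, Category.assoc, IsOpenImmersion.lift_fac, morphismRestrict_ι]
    show (j ⁻¹ᵁ (W q).1).ι ≫ u = (j ⁻¹ᵁ (W q).1).ι ≫ u'
    rw [← hf, Category.assoc, Category.assoc, e]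
  let T := 𝒰.glueMorphisms (fun W => t W) fun W W' => by
    haveI : IsOpenImmersion (pullback.fst (𝒰.f W) (𝒰.f W') ≫ W.1.ι) := inferInstance
    have h1 := (ht W).comp p U s (pullback.fst (𝒰.f W) (𝒰.f W'))
    have h2 := (ht W').comp p U s (pullback.snd (𝒰.f W) (𝒰.f W'))
    rw [show pullback.snd (𝒰.f W) (𝒰.f W') ≫ W'.1.ι = pullback.fst (𝒰.f W) (𝒰.f W') ≫ W.1.ι from
      pullback.condition.symm] at h2
    exact huniq _ _ _ h1 h2
  have hTι : ∀ W : ι₀, W.1.ι ≫ T = t W := fun W => 𝒰.ι_glueMorphisms _ _ W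
  have hT : T ≫ p = 𝟙 X := 𝒰.hom_ext _ _ fun W => by
    show W.1.ι ≫ T ≫ p = W.1.ι ≫ 𝟙 X
    rw [← Category.assoc, hTι W, (ht W).1, Category.comp_id]
  have hExt : ∀ u : X ⟶ Y, u ≫ p = 𝟙 X → U.ι ≫ u = s → Ext p U s (𝟙 X) u := fun u h1 h2 =>
    ⟨h1, fun R r r' hr => by rw [← h2, ← Category.assoc, ← hr, Category.comp_id]⟩
  have hTU : U.ι ≫ T = s := by
    have hcovU : IsOpenCover fun W : ι₀ => U.ι ⁻¹ᵁ W.1 := eq_top_iff.2 fun x _ => by
      obtain ⟨W, hW, hxW, -, hb⟩ := hgood (U.ι x) ⊤ trivial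
      exact Opens.mem_iSup.2 ⟨⟨W, hW, hb⟩, hxW⟩
    refine ((U : Scheme.{u}).openCoverOfIsOpenCover _ hcovU).hom_ext _ _ fun W => ?_
    show (U.ι ⁻¹ᵁ W.1).ι ≫ U.ι ≫ T = (U.ι ⁻¹ᵁ W.1).ι ≫ s
    rw [← Category.assoc, ← morphismRestrict_ι, Category.assoc, hTι W]
    exact (ht W).2 _ _ _ (morphismRestrict_ι _ _)
  exact ⟨T, ⟨hT, hTU⟩, fun u hu => huniq (𝟙 X) u T (hExt u hu.1 hu.2) (hExt T hT hTU)⟩

end Groth.Agent.RhoSh6
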