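import Groth.Agent.Codepth5.Scheme
import Groth.Agent.Codepth5.CM
import Groth.Agent.FlatSyz5.FibreFree
import Groth.Agent.QCoh.LocFree
import Groth.Agent.DimFormula.DedekindFlat
import Groth.Agent.GrpSchLib.SmoothRegular
import Groth.Prelude.Def_TorSh
import Groth.Prelude.Def_CInt

/-!
# Relatively torsion-free flat modules are free where the fibre is a curve
-/

set_option autoImplicit false
set_option linter.style.haveILetI false
set_option backward.isDefEq.respectTransparency false
set_option backward.isDefEq.respectTransparency.types false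

universe u

open AlgebraicGeometry CategoryTheory IsLocalRing TensorProduct

namespace Groth.Agent.RhoSh6

variable {X S : Scheme.{u}}

theorem free_stalk_aux (f : X ⟶ S) (F : X.Modules) (hfp : CohB1.IsFP F) (x : X) (s : S)
    (w : ↥(f.fiber s)) (hw : f.fiberι s w = x) (hflat : FlatMod.IsFlatOverAt f F x)
    (hfree : Module.Free ((f.fiber s).presheaf.stalk w)
      (((Scheme.Modules.pullback (f.fiberι s)).obj F).presheaf.stalk w)) :
    Module.Free (X.presheaf.stalk x) (F.presheaf.stalk x) := by
  subst hw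
  let ι := f.fiberι s
  let O : Type u := X.presheaf.stalk (ι w)
  let T : Type u := (f.fiber s).presheaf.stalk w
  let M : Type u := F.presheaf.stalk (ι w)
  let σ : O →+* T := (ι.stalkMap w).hom
  letI : Algebra O T := σ.toAlgebra
  let R₀ : Type u := S.presheaf.stalk (f (ι w))
  letI : Algebra R₀ O := (f.stalkMap (ι w)).hom.toAlgebra
  letI : Module R₀ M := FlatMod.moduleStalkOver f F (ι w)
  haveI : IsScalarTower R₀ O M := IsScalarTower.of_algebraMap_smul fun _ _ => rfl
  haveI : Module.Flat R₀ M := hflat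
  -- finite presentation of the stalk
  haveI : Module.FinitePresentation O M := by
    obtain ⟨_, ⟨U, hU, rfl⟩, hx, -⟩ :=
      X.isBasis_affineOpens.exists_subset_of_mem_open (Set.mem_univ (ι w)) isOpen_univ
    have hU' : IsAffineOpen U := hU
    haveI := QCoh.finitePresentation_of_isFP hfp hU'
    letI := QCoh.stalkAlg (X := X) hx
    letI := QCoh.stalkModule F hx
    haveI := QCoh.isScalarTower_stalk F hx
    haveI := QCoh.isLocalization_stalk' hU' hx
    haveI := QCoh.isLocalizedModule_germLin (QCoh.isQCoh_of_isFP hfp) hU' hx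
    exact FinitePresentation.of_isBaseChange (QCoh.germLin F hx)
      (IsLocalizedModule.isBaseChange (hU'.primeIdealOf ⟨ι w, hx⟩).asIdeal.primeCompl O _)
  have hσ : Function.Surjective σ := ι.stalkMap_surjective w
  let J : Ideal O := (maximalIdeal R₀).map (algebraMap R₀ O)
  have hJ : RingHom.ker σ = J := FlatDvr.ker_stalkMap_fiberι f w
  have hJt : (maximalIdeal R₀).map (algebraMap R₀ O) ≠ ⊤ := by
    show J ≠ ⊤
    rw [← hJ]
    exact RingHom.ker_ne_top σ
  let e₀ : ((Scheme.Modules.pullback ι).obj F).presheaf.stalk w ≃ₗ[T] T ⊗[O] M :=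
    ((KFlatLib.stalkPullbackIso ι w).app F).toLinearEquiv
  haveI : Module.Free T (T ⊗[O] M) := Module.Free.of_equiv' hfree e₀
  let g : (O ⧸ J) →ₐ[O] T := Ideal.Quotient.liftₐ J (Algebra.ofId O T) fun a ha => by
    show σ a = 0
    rw [← RingHom.mem_ker, hJ]
    exact ha
  have hgb : Function.Bijective g := by
    refine ⟨RingHom.lift_injective_of_ker_le_ideal _ _ hJ.le, fun t => ?_⟩
    obtain ⟨a, rfl⟩ := hσ t
    exact ⟨Ideal.Quotient.mk J a, rfl⟩
  let e₁ : (O ⧸ J) ≃ₐ[O] T := AlgEquiv.ofBijective g hgb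
  let e₂ := TensorProduct.congr e₁.toLinearEquiv (LinearEquiv.refl O M)
  let r₁ : T →+* O ⧸ J := e₁.symm.toRingEquiv.toRingHom
  let r₂ : O ⧸ J →+* T := e₁.toRingEquiv.toRingHom
  haveI h₁ : RingHomInvPair r₁ r₂ := ⟨RingHom.ext e₁.apply_symm_apply, RingHom.ext e₁.symm_apply_apply⟩
  haveI h₂ : RingHomInvPair r₂ r₁ := ⟨RingHom.ext e₁.symm_apply_apply, RingHom.ext e₁.apply_symm_apply⟩
  have hfree' : Module.Free (O ⧸ J) ((O ⧸ J) ⊗[O] M) := Module.Free.of_equiv (σ := r₁)
    ({ e₂.symm.toAddEquiv with
        map_smul' := fun t z => by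
          show e₂.symm (t • z) = e₁.symm t • e₂.symm z
          induction z with
          | zero => simp
          | tmul a m =>
            simp only [TensorProduct.smul_tmul', e₂, TensorProduct.congr_symm_tmul, smul_eq_mul]
            exact congrArg (fun y => y ⊗ₜ[O] m) (map_mul e₁.symm t a)
          | add y z hy hz => rw [smul_add, map_add, map_add, hy, hz, smul_add] } :
      (T ⊗[O] M) ≃ₛₗ[r₁] ((O ⧸ J) ⊗[O] M))
  exact FlatSyz5.free_of_fibre (A := R₀) (B := O) (M := M) (maximalIdeal R₀) hJt hfree'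

/-- Free on a neighbourhood where the fibre has dimension at most one. -/
theorem exists_free_nhd_of_torsionFree (f : X ⟶ S) [Smooth f] (F : X.Modules) (hfp : CohB1.IsFP F)
    (hfl : FlatMod.IsFlatOver f F)
    (htf : ∀ s : S, TorSh.IsTorsionFree ((Scheme.Modules.pullback (f.fiberι s)).obj F))
    (x : X) (hx : ringKrullDim (CInt.fiberStalk f x) ≤ 1) :
    ∃ (V : X.Opens) (n : ℕ), x ∈ V ∧ Nonempty (F.restrict V.ι ≅ FlatMod.freeMod (↑V) n) := by
  haveI : Smooth (f.fiberToSpecResidueField (f x)) :=
    MorphismProperty.pullback_snd (P := @Smooth) _ _ inferInstance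
  haveI : IsRegularLocalRing (CInt.fiberStalk f x) :=
    GrpSchLib.isRegularLocalRing_stalk_of_smooth (f.fiberToSpecResidueField (f x)) (f.asFiber x)
  haveI := RegLoc6.isDomain_of_isRegularLocalRing (CInt.fiberStalk f x)
  haveI := DimFormula.isPrincipalIdealRing_of_regular_dim_le_one hx
  haveI := htf (f x) (f.asFiber x)
  haveI := Codepth5.finite_fibre_stalk f F hfp (f x) (f.asFiber x)
  haveI := free_stalk_aux f F hfp x (f x) (f.asFiber x) (f.fiberι_asFiber x) (hfl x) Module.free_of_finite_type_torsion_free'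
  exact QCoh.exists_free_nhd_of_free_stalk hfp x

end Groth.Agent.RhoSh6
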